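import Cfsg.Agent.Omega.NOThreeL.RLow.RC.Count
import Cfsg.Agent.Omega.NOThreeL.RLow.RC.Star

/-!
# THEOREM R-LOW (#21762), part RC: the bad line of natural type has no radical

* `two_lt_card` : `2 < |K|`;
* `rc : StRC` (Count, CVq, Star).
-/

set_option autoImplicit false

namespace Cfsg.Agent.Omega.NOThreeL.RLow.Cnt

open Subgroup Cfsg Cfsg.Agent.ZN Cfsg.Agent.Omega.MinPar
open Cfsg.Agent.Omega.FFThm (NatKM)
open Cfsg.Agent.Omega.FrameFF (cv)

universe u

variable {G : Type u} [Group G] [Finite G] {S : Sylow 2 G} {V F B P : Subgroup G}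
variable {K : Type} [Field K] {k : ℕ}

/-- `2 < |K|` -/
theorem two_lt_card [Finite K] [CharP K 2] (s : SitR S V F B P)
    (N : NatKM K (S : Subgroup G) P (zl (S : Subgroup G) P) (cv (S : Subgroup G) P) k) : 2 < Nat.card K := by
  refine s.card.trans_le (s.card_le.trans ((relIndex_le_of_le_right ?_ index_ne_zero_of_finite).trans (RC.cvq s N)))
  exact le_inf inf_le_left (inf_le_right.trans s.comm)

omit [Finite G] in
/-- The structure `Star` as `RstS` -/
theorem rstS {N : NatKM K (S : Subgroup G) P (zl (S : Subgroup G) P) (cv (S : Subgroup G) P) k} {R : Subgroup G}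
    (o : Star.Star (S : Subgroup G) P N R) : RstS S P N R where
  le := o.le
  line := o.line
  surj := o.surj
  inf := o.inf
  nor := o.nor
  dec := o.dec
  pt := o.pt

end Cfsg.Agent.Omega.NOThreeL.RLow.Cnt

namespace Cfsg.Agent.Omega.NOThreeL.RLow

universe u

/-- **RC** -/
theorem rc : StRC.{u} := by
  intro G _ _ S V F B P s K _ _ _ k hk ⟨N⟩
  obtain ⟨R, o⟩ := Star.exists_star s.ctx.char2 s.hP N hk (Cnt.two_lt_card s N)
  exact Cnt.rc_of s hk (Cnt.rstS o) (RC.cvq s N)

end Cfsg.Agent.Omega.NOThreeL.RLow
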