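import Cfsg.Agent.Omega.NOThreeL.RLow.SymR
import Cfsg.Agent.Omega.NO3S.KeyRad.Lin

/-!
# THEOREM R-LOW (#21762), part RC (a): `|C_V(B) : F| ≤ q`

`s : SitR S V F B P`, `M : NatKM K S P (zl S P) (cv S P) k`, the radical `D = cv S P` is arbitrary, `q = |K|`.

* `nb`, `qb` : the inputs `Nb`, `QB` of `NO3S/KeyRad` for `SitR`;
* `exists_bad` : some `blk M i = [U, L_i]` is not in `E` (the block `i` is bad);
* `mem_E` : `C_V(B) ≤ E`;
* `exists_beta` : some `b ∈ B` acts as `up β`, `β ≠ 0`, on a bad block;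
* `exists_up_of_comm` : `t ∈ S` which centralises all `[u, b]`, `u ∈ U`, `b ∈ B`, acts as `up a` on a bad block;
* `cvq` : `|C_V(B) : F| ≤ q`.
-/

set_option autoImplicit false

namespace Cfsg.Agent.Omega.NOThreeL.RLow.RC

open Subgroup Cfsg Cfsg.Agent.ZN Cfsg.Agent.Omega.MinPar Cfsg.Agent.Omega.NoFF.Basic
open Cfsg.Agent.Omega.NOne.Flat (Hyp EE WW NN BadX badX_inv)
open Cfsg.Agent.Omega.NOne.NearFF (c c_def)
open Cfsg.Agent.Omega.FrameFF (cv)
open Cfsg.Agent.Omega.FFThm (NatKM)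
open Cfsg.Agent.Omega.NatPair (ap ap_one ap_zero' ap_one' ext2)
open Cfsg.Agent.Lib.SL2Mat (up up_00 up_01 up_10 up_11)
open Cfsg.Agent.Omega.NOThreeL.Low.Key (norm_conj_mem)
open Cfsg.Agent.Omega.NOThreeL.Low.Nat (QB)
open Cfsg.Agent.Omega.NO3S.ThmB (Nb)
open Cfsg.Agent.Omega.NO3S.KeyRad (blk Mv ph em em_mem e_em_self e_em_ne)
open scoped Pointwise

universe u

/-- counting -/
theorem relIndex_le_of_fun {G : Type u} [Group G] [Finite G] {A C : Subgroup G} {X : Type*} [Finite X] (φ : A → X)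
    (h : ∀ a b : A, φ a = φ b → (a : G)⁻¹ * b ∈ C) : C.relIndex A ≤ Nat.card X := by
  rw [relIndex, index]
  refine Nat.card_le_card_of_injective (fun q : A ⧸ C.subgroupOf A => φ q.out) ?_
  intro x y hxy
  have h2 := h _ _ hxy
  have h3 : (x.out : A ⧸ C.subgroupOf A) = y.out := by
    rw [QuotientGroup.eq, mem_subgroupOf]
    exact h2
  rwa [QuotientGroup.out_eq', QuotientGroup.out_eq'] at h3

/-- a 2-power root of unity in characteristic 2 is trivial -/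
theorem eq_one_of_pow {K : Type*} [Field K] [CharP K 2] {a : K} {n : ℕ} (h : a ^ 2 ^ n = 1) : a = 1 := by
  have h1 : (a - 1) ^ 2 ^ n = 0 := by rw [sub_pow_char_pow, h, one_pow, sub_self]
  exact sub_eq_zero.1 (pow_eq_zero_iff (by positivity) |>.1 h1)

variable {G : Type u} [Group G] [Finite G] {S : Sylow 2 G} {V F B P : Subgroup G}

section sit

variable (s : SitR S V F B P)
include s

/-- the input of `NO3S/KeyRad` for `B` -/
theorem qb : QB (S : Subgroup G) (zl (S : Subgroup G) P) B (EE V F) where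
  BS := s.BS
  ab _ hb _ hc := (SymR.bh s).B_comm hb hc
  sq b hb := by rw [← pow_two]; exact s.sq b hb
  quad _ hv _ hb _ hc := SymR.quad s (s.UV hv) hb hc
  t1 _ hw hwE h := SymR.false_of_few s (s.UV hw) hwE h

/-- `C_V(B) ≤ E` -/
theorem mem_E {r : G} (hr : r ∈ V) (hrB : ∀ b ∈ B, b * r = r * b) : r ∈ EE V F := by
  by_contra hE
  refine SymR.false_of_few s hr hE fun b hb _ _ h1 _ => absurd ?_ h1
  rw [hrB b hb, mul_inv_cancel_right]

variable {K : Type} [Field K] {k : ℕ}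
  (M : NatKM K (S : Subgroup G) P (zl (S : Subgroup G) P) (cv (S : Subgroup G) P) k)

theorem nb : Nb M := NO3S.ThmB.Inst.nb s.ctx.char2 s.hP M

/-- some block is bad -/
theorem exists_bad [CharP K 2] : ∃ i, ¬ blk M i ≤ EE V F := by
  refine NO3S.KeyRad.exists_blk (nb s M) (Z := zc (S : Subgroup G)) ZN.zc_le_zl ?_
    (fun L hZ hP => MinSimple.VModule.zl_le hZ hP) ((SymR.Z_le_I s).trans (SymR.I_le_E s)) s.bad
  intro z hz t ht
  exact (MinSimple.VModule.mem_zc.1 hz).2.1 t ht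

variable {M} {i : Fin k} [Finite K] [CharP K 2] (hi : ¬ blk M i ≤ EE V F)
include hi

/-- some `b ∈ B` is not trivial on the bad block -/
theorem exists_beta : ∃ b ∈ B, ∃ β : K, β ≠ 0 ∧
    ∀ v ∈ zl (S : Subgroup G) P, M.e (b * v * b⁻¹) i = ap (up β) (M.e v i) := by
  by_contra hcon
  push Not at hcon
  have h := nb s M
  obtain ⟨w, hw, hwE⟩ := SetLike.not_le_iff_exists.1 hi
  have key : ∀ b ∈ B, b * w * b⁻¹ = w := by
    intro b hb
    obtain ⟨β, hβ⟩ := NO3S.KeyRad.exists_up h (qb s) hi hb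
    have h0 : β = 0 := by
      by_contra hne
      obtain ⟨v, hv, h1⟩ := hcon b hb β hne
      exact h1 (hβ v hv)
    have h1 := NO3S.KeyRad.eq_lift h (qb s) (i := i) (b := b) (g := 1) (A := 1) (NO3S.KeyRad.BP h (qb s) hb)
      (one_mem _) (fun v hv => by rw [hβ v hv, h0, Lib.SL2Mat.up_zero])
      (fun v hv => by rw [one_mul, inv_one, mul_one, ap_one]) hw
    rw [h1, one_mul, inv_one, mul_one]
  exact SymR.false_of_few s (s.UV (NO3S.KeyRad.blk_le h i hw)) hwE fun b hb _ _ h1 _ => absurd (key b hb) h1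

/-- `t ∈ S` which centralises `[U, B]` acts as an upper unitriangular matrix on the bad block. -/
theorem exists_up_of_comm {t : G} (ht : t ∈ (S : Subgroup G))
    (hc : ∀ v ∈ zl (S : Subgroup G) P, ∀ b ∈ B, t * (b * v * b⁻¹ * v⁻¹) = b * v * b⁻¹ * v⁻¹ * t) :
    ∃ a : K, ∀ v ∈ zl (S : Subgroup G) P, M.e (t * v * t⁻¹) i = ap (up a) (M.e v i) := by
  have h := nb s M
  have q := qb s
  have htP : t ∈ P := s.hP.le ht
  obtain ⟨b, hb, β, hβ0, hβ⟩ := exists_beta s hi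
  have hbP : b ∈ P := s.hP.le (s.BS hb)
  obtain ⟨σb, hσb⟩ := M.perm b hbP
  have hσbi := NO3S.KeyRad.fix h q hi hb hσb
  -- the vectors `r x = [b, (0, x/β)]`
  have hr : ∀ x : K, ∃ r ∈ zl (S : Subgroup G) P, t * r * t⁻¹ = r ∧ M.e r i = ![x, 0] ∧ ∀ l, l ≠ i → M.e r l = 0 := by
    intro x
    have hu := em_mem M i ![0, x / β]
    have hbu := h.memV hbP hu
    refine ⟨b * em M i ![0, x / β] * b⁻¹ * (em M i ![0, x / β])⁻¹, mul_mem hbu (inv_mem hu), ?_, ?_, ?_⟩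
    · rw [hc _ hu b hb, mul_inv_cancel_right]
    · rw [h.e_div hbu hu, Pi.add_apply, hβ _ hu, e_em_self]
      apply ext2
      · rw [Pi.add_apply, ap_zero', up_00, up_01]
        simp [hβ0, mul_div_cancel₀]
      · rw [Pi.add_apply, ap_one', up_10, up_11]
        simp [CharTwo.add_self_eq_zero]
    · intro l hl
      have h1 := (hσb _ hu (σb.symm l)).2 (e_em_ne M (fun h2 => hl (by rw [← hσbi, ← h2, σb.apply_symm_apply])) _)
      rw [σb.apply_symm_apply] at h1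
      rw [h.e_div hbu hu, Pi.add_apply, h1, e_em_ne M hl, add_zero]
  obtain ⟨σ, hσ⟩ := M.perm t htP
  have hσi : σ i = i := by
    obtain ⟨r, hrU, hrt, hri, hrl⟩ := hr 1
    have h1 := hσ r hrU i
    by_contra hne
    rw [hrt, hrl _ hne, hri] at h1
    have h2 := congrFun (h1.1 rfl) 0
    simp at h2
  have he : ∀ v ∈ zl (S : Subgroup G) P, M.e (t * v * t⁻¹) i = ph M t i i (M.e v i) := by
    intro v hv
    have h1 := NO3S.KeyRad.e_conj h htP hσ hv i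
    rwa [hσi] at h1
  have hadd := NO3S.KeyRad.ph_add h (M := M) htP i i
  obtain ⟨τ, hτ⟩ := NO3S.KeyRad.exists_semi h htP hσ i
  rw [hσi] at hτ
  have hfix : ∀ x : K, ph M t i i ![x, 0] = ![x, 0] := by
    intro x
    obtain ⟨r, hrU, hrt, hri, -⟩ := hr x
    have h1 := he r hrU
    rw [hrt, hri] at h1
    exact h1.symm
  have hτ1 : ∀ x : K, τ x = x := by
    intro x
    have h1 := hτ x ![1, 0]
    have h2 : x • (![1, 0] : Fin 2 → K) = ![x, 0] := ext2 (by simp) (by simp)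
    rw [h2, hfix, hfix] at h1
    have h3 := congrFun h1 0
    simpa using h3.symm
  have hdec : ∀ x : Fin 2 → K, x = ![x 0, 0] + x 1 • ![0, 1] := fun x => ext2 (by simp) (by simp)
  have hT : ∀ x : Fin 2 → K, ph M t i i x = ![x 0 + ph M t i i ![0, 1] 0 * x 1, ph M t i i ![0, 1] 1 * x 1] := by
    intro x
    conv_lhs => rw [hdec x]
    rw [hadd, hfix, hτ, hτ1]
    apply ext2
    · simp [mul_comm]
    · simp [mul_comm]
  -- the entry at `(1, 1)`
  obtain ⟨ν, hν⟩ : ∃ ν, ph M t i i ![0, 1] 1 = ν := ⟨_, rfl⟩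
  have hν1 : ν = 1 := by
    obtain ⟨n, hn⟩ := S.isPGroup' ⟨t, ht⟩
    have hn' : t ^ 2 ^ n = 1 := congrArg Subtype.val hn
    have hpow : ∀ m : ℕ, ∀ v ∈ zl (S : Subgroup G) P, M.e (t ^ m * v * (t ^ m)⁻¹) i 1 = ν ^ m * M.e v i 1 := by
      intro m
      induction m with
      | zero => intro v hv; simp
      | succ m ih =>
        intro v hv
        have e1 : t ^ (m + 1) * v * (t ^ (m + 1))⁻¹ = t * (t ^ m * v * (t ^ m)⁻¹) * t⁻¹ := by
          rw [pow_succ']; group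
        rw [e1, he _ (h.memV (pow_mem htP m) hv), hT]
        have h1 := ih v hv
        change ph M t i i ![0, 1] 1 * M.e (t ^ m * v * (t ^ m)⁻¹) i 1 = _
        rw [h1, hν, pow_succ']
        ring
    have h1 := hpow (2 ^ n) _ (em_mem M i ![0, 1])
    rw [hn', one_mul, inv_one, mul_one, e_em_self] at h1
    have h2 : (1 : K) = ν ^ 2 ^ n := by simpa using h1
    exact eq_one_of_pow h2.symm
  refine ⟨ph M t i i ![0, 1] 0, fun v hv => ?_⟩
  rw [he v hv, hT]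
  apply ext2
  · rw [ap_zero', up_00, up_01]
    simp
  · rw [ap_one', up_10, up_11, hν, hν1]
    simp

omit hi in
/-- **(a)** `|C_V(B) : F| ≤ q` -/
theorem cvq (M : NatKM K (S : Subgroup G) P (zl (S : Subgroup G) P) (cv (S : Subgroup G) P) k) :
    F.relIndex (V ⊓ centralizer (B : Set G)) ≤ Nat.card K := by
  have h := nb s M
  have q := qb s
  have hF := s.flat
  obtain ⟨i, hi⟩ := exists_bad s M
  obtain ⟨w, hw, hwE⟩ := SetLike.not_le_iff_exists.1 hi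
  have hwV : w ∈ V := s.UV (NO3S.KeyRad.blk_le h i hw)
  obtain ⟨x, hx, hb⟩ := Low.Key.exists_bad hF
  have hxi : x⁻¹ ∈ centralizer (F : Set G) := inv_mem hx
  -- `r' = x⁻¹ r x`
  have hE : ∀ r ∈ V ⊓ centralizer (B : Set G), r ∈ EE V F := fun r hr =>
    mem_E s hr.1 fun b hb => mem_centralizer_iff.1 hr.2 b hb
  have hr'W : ∀ r ∈ V ⊓ centralizer (B : Set G), x⁻¹ * r * x ∈ WW V F := by
    intro r hr
    have h1 : x⁻¹ * r * x ∈ MulAut.conj x⁻¹ • EE V F := by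
      rw [mem_conj]
      have e : x⁻¹⁻¹ * (x⁻¹ * r * x) * x⁻¹ = r := by group
      rw [e]
      exact hE r hr
    exact NOne.Flat.Hyp.conjE_le_W hxi h1
  have hr'B : ∀ r ∈ V ⊓ centralizer (B : Set G), ∀ b ∈ B, b * (x⁻¹ * r * x) = x⁻¹ * r * x * b := by
    intro r hr b hbB
    have h1 : x * b * x⁻¹ ∈ B := norm_conj_mem (s.XB hx) hbB
    have h2 := mem_centralizer_iff.1 hr.2 _ h1
    calc b * (x⁻¹ * r * x) = x⁻¹ * (x * b * x⁻¹ * r) * x := by group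
      _ = x⁻¹ * (r * (x * b * x⁻¹)) * x := by rw [h2]
      _ = x⁻¹ * r * x * b := by group
  have hr'S : ∀ r ∈ V ⊓ centralizer (B : Set G), x⁻¹ * r * x ∈ (S : Subgroup G) := fun r hr =>
    s.CB (mem_inf.2 ⟨hr'W r hr, mem_centralizer_iff.2 (hr'B r hr)⟩)
  have hup : ∀ r : ↥(V ⊓ centralizer (B : Set G)), ∃ a : K, ∀ v ∈ zl (S : Subgroup G) P,
      M.e (x⁻¹ * (r : G) * x * v * (x⁻¹ * (r : G) * x)⁻¹) i = ap (up a) (M.e v i) := by
    intro r
    refine exists_up_of_comm s hi (hr'S r r.2) fun v hv b hb => ?_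
    have h1 := (SymR.bh s).c_memI (s.UV hv) hb
    have h2 : b * v * b⁻¹ * v⁻¹ ∈ B := by
      have e : b * v * b⁻¹ * v⁻¹ = (c v b)⁻¹ := by rw [c_def]; group
      rw [e]
      exact inv_mem h1.2
    exact (hr'B r r.2 _ h2).symm
  choose φ hφ using hup
  refine relIndex_le_of_fun φ fun r₁ r₂ h12 => ?_
  -- `r₁'⁻¹ r₂'` centralises `w`
  have h1 : x⁻¹ * (r₁ : G) * x * w * (x⁻¹ * (r₁ : G) * x)⁻¹ = x⁻¹ * (r₂ : G) * x * w * (x⁻¹ * (r₂ : G) * x)⁻¹ :=
    NO3S.KeyRad.eq_lift h q (s.hP.le (hr'S r₁ r₁.2)) (s.hP.le (hr'S r₂ r₂.2)) (hφ r₁)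
      (by rw [h12]; exact hφ r₂) hw
  have h2 : c w ((x⁻¹ * (r₁ : G) * x)⁻¹ * (x⁻¹ * (r₂ : G) * x)) = 1 := by
    have h3 : ((x⁻¹ * (r₁ : G) * x)⁻¹ * (x⁻¹ * (r₂ : G) * x)) * w *
        ((x⁻¹ * (r₁ : G) * x)⁻¹ * (x⁻¹ * (r₂ : G) * x))⁻¹ = w := by
      calc _ = (x⁻¹ * (r₁ : G) * x)⁻¹ * (x⁻¹ * (r₂ : G) * x * w * (x⁻¹ * (r₂ : G) * x)⁻¹) *
            (x⁻¹ * (r₁ : G) * x) := by group
        _ = (x⁻¹ * (r₁ : G) * x)⁻¹ * (x⁻¹ * (r₁ : G) * x * w * (x⁻¹ * (r₁ : G) * x)⁻¹) *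
            (x⁻¹ * (r₁ : G) * x) := by rw [h1]
        _ = w := by group
    have e : ∀ y : G, c w y = w * (y * w * y⁻¹)⁻¹ := fun y => by rw [c_def]; group
    rw [e, h3, mul_inv_cancel]
  have h3 : (x⁻¹ * (r₁ : G) * x)⁻¹ * (x⁻¹ * (r₂ : G) * x) ∈ NN V F :=
    (hF.c_mem_F_iff hwV hwE (mul_mem (inv_mem (hr'W r₁ r₁.2)) (hr'W r₂ r₂.2))).1 (by rw [h2]; exact one_mem _)
  rw [← hF.E_inf_conjNN hx hb]
  refine mem_inf.2 ⟨mul_mem (inv_mem (hE r₁ r₁.2)) (hE r₂ r₂.2), ?_⟩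
  rw [mem_conj]
  have e : x⁻¹ * ((r₁ : G)⁻¹ * (r₂ : G)) * x = (x⁻¹ * (r₁ : G) * x)⁻¹ * (x⁻¹ * (r₂ : G) * x) := by group
  rw [e]
  exact h3

end sit

end Cfsg.Agent.Omega.NOThreeL.RLow.RC
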