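import Cfsg.Agent.Omega.NOThreeL.RLow.RA
import Cfsg.Agent.Omega.NOThreeL.RLow.RC.CVq
import Cfsg.Agent.Omega.NO3S.KeyRad.Lin
import Cfsg.Agent.Omega.NO3S.ThmB.Inst
import Cfsg.Agent.Omega.NoFF.LinesPlug

/-!
# THEOREM R-LOW (#21762), part RC: the count ((b4) of #22164, #22231 (B))

`N : NatKM K S P (zl S P) D k`, `D = cv S P`, `R` an `S`-invariant complement of `D` in the preimage of the sum of the
lines (`Rst`, `RstS`).

* `inv_unique`, `exists_tr` : involutions of finite fields of characteristic 2;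
* `single_mem` : the single elements of `R` are in `E` ((T1) inside `R`);
* `exists_g`, `exists_f` : the product `f` of the components `z_j` of `z ∈ Z ∩ R` over the lines which `B` moves is in `F`;
* `card_mul_le` : `q |Z ∩ D| ≤ |C_V(B) : F|`; `rc_of` : `D = 1`.
-/

set_option autoImplicit false
set_option linter.unusedSectionVars false

namespace Cfsg.Agent.Omega.NOThreeL.RLow.Cnt

open Subgroup Cfsg Cfsg.Agent.ZN
open Cfsg.Agent.Omega.MinPar Cfsg.Agent.Omega.Frame Cfsg.Agent.Omega.FrameNOFF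
open Cfsg.Agent.Omega.FFThm Cfsg.Agent.Omega.NatPair
open Cfsg.Agent.Omega.FrameFF (cv)
open Cfsg.Agent.Omega.NOne.Flat (Hyp EE WW NN)
open Cfsg.Agent.Omega.NOne.NearFF (c)
open Cfsg.Agent.Omega.NO3S.ThmB Cfsg.Agent.Omega.NO3S.KeyRad
open Cfsg.Agent.Omega.NOThreeL.Low.Nat (QB)
open Cfsg.Agent.MinSimple.VModule (zc_le_zl)
open scoped Pointwise

universe u

/-- the involution of the automorphism group of a finite field is unique -/
theorem inv_unique {K : Type} [Field K] [Finite K] [CharP K 2] {s t : K ≃+* K} (hs : ∀ x, s (s x) = x)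
    (ht : ∀ x, t (t x) = x) {a b : K} (ha : s a ≠ a) (hb : t b ≠ b) (x : K) : s x = t x := by
  classical
  let _ : Algebra (ZMod 2) K := ZMod.algebra K 2
  have hcom : ∀ (f : K ≃+* K) (r : ZMod 2), f (algebraMap (ZMod 2) K r) = algebraMap (ZMod 2) K r := by
    intro f r
    exact RingHom.congr_fun (Subsingleton.elim (f.toRingHom.comp (algebraMap (ZMod 2) K)) (algebraMap (ZMod 2) K)) r
  set S : K ≃ₐ[ZMod 2] K := AlgEquiv.ofRingEquiv (hcom s) with hS
  set T : K ≃ₐ[ZMod 2] K := AlgEquiv.ofRingEquiv (hcom t) with hT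
  have hSx : ∀ x, S x = s x := fun _ => rfl
  have hTx : ∀ x, T x = t x := fun _ => rfl
  have : Fintype (K ≃ₐ[ZMod 2] K) := Fintype.ofFinite _
  have hS2 : S ^ 2 = 1 := by
    ext x
    rw [pow_two]
    exact hs x
  have hT2 : T ^ 2 = 1 := by
    ext x
    rw [pow_two]
    exact ht x
  have hS1 : S ≠ 1 := fun h => ha (by rw [← hSx, h]; rfl)
  have hT1 : T ≠ 1 := fun h => hb (by rw [← hTx, h]; rfl)
  have hcard := IsCyclic.card_pow_eq_one_le (α := K ≃ₐ[ZMod 2] K) (n := 2) two_pos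
  by_contra hne
  have hST : S ≠ T := fun h => hne (by rw [← hSx, h, hTx])
  have hsub : ({1, S, T} : Finset (K ≃ₐ[ZMod 2] K)) ⊆ Finset.univ.filter fun g => g ^ 2 = 1 := by
    intro g hg
    rw [Finset.mem_insert, Finset.mem_insert, Finset.mem_singleton] at hg
    rw [Finset.mem_filter]
    rcases hg with rfl | rfl | rfl
    · exact ⟨Finset.mem_univ _, one_pow 2⟩
    · exact ⟨Finset.mem_univ _, hS2⟩
    · exact ⟨Finset.mem_univ _, hT2⟩
  have h3 : ({1, S, T} : Finset (K ≃ₐ[ZMod 2] K)).card = 3 := by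
    rw [Finset.card_eq_three]
    exact ⟨1, S, T, hS1.symm, hT1.symm, hST, rfl⟩
  have h4 := (Finset.card_le_card hsub).trans hcard
  omega

/-- a nontrivial involution of a field of characteristic 2 has a `μ` with `μ + s μ = 1` -/
theorem exists_tr {K : Type} [Field K] [CharP K 2] {s : K ≃+* K} (hs : ∀ x, s (s x) = x) {a : K} (ha : s a ≠ a) :
    ∃ m, s m + m = 1 := by
  have hm0 : a + s a ≠ 0 := fun h => ha (CharTwo.add_eq_zero.1 h).symm
  have hsm : s (a + s a) = a + s a := by rw [map_add, hs, add_comm]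
  refine ⟨a / (a + s a), ?_⟩
  rw [map_div₀, hsm, ← add_div, add_comm (s a), div_self hm0]

/-! ### The lines `R_i` -/

section mod

variable {G : Type u} [Group G] {K : Type} [Field K] {S P U D : Subgroup G} {k : ℕ}

/-- `R` is an `S`-invariant complement of `D` in the preimage of the sum of the lines. -/
structure Rst (N : NatKM K S P U D k) (R : Subgroup G) : Prop where
  le : R ≤ U
  line : ∀ r ∈ R, ∀ i, N.e r i 1 = 0
  surj : ∀ x : Fin k → K, ∃ r ∈ R, ∀ i, N.e r i 0 = x i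
  inf : R ⊓ D = ⊥
  nor : S ≤ normalizer (R : Set G)

namespace Rst

variable {N : NatKM K S P U D k} {R : Subgroup G} (o : Rst N R)
include o

theorem e_eq {r : G} (hr : r ∈ R) (i : Fin k) : N.e r i = ![N.e r i 0, 0] := by
  refine vec_eq ?_ ?_
  · simp
  · rw [o.line r hr i]; simp

variable (h : Nb N)
include h

theorem inj [CharP K 2] {r r' : G} (hr : r ∈ R) (hr' : r' ∈ R) (hx : ∀ i, N.e r i 0 = N.e r' i 0) : r = r' := by
  have h1 : N.e r = N.e r' := by
    funext i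
    rw [o.e_eq hr, o.e_eq hr', hx]
  have h2 := (h.mem_D (o.le hr) (o.le hr')).2 h1
  have h3 : r * r'⁻¹ ∈ R ⊓ D := mem_inf.2 ⟨mul_mem hr (inv_mem hr'), h2⟩
  rw [o.inf, mem_bot] at h3
  exact mul_inv_eq_one.1 h3

theorem inj' [CharP K 2] {r r' : G} (hr : r ∈ R) (hr' : r' ∈ R) (hx : ∀ i, N.e r i = N.e r' i) : r = r' :=
  o.inj h hr hr' fun i => by rw [hx]

omit h in
theorem conj {g r : G} (hg : g ∈ S) (hr : r ∈ R) : g * r * g⁻¹ ∈ R := (mem_normalizer_iff.1 (o.nor hg) r).1 hr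

omit h in
/-- the element of `R` with coordinate `m` at `i` -/
theorem exists_rs (i : Fin k) (m : K) : ∃ r ∈ R, N.e r i 0 = m ∧ ∀ j, j ≠ i → N.e r j = 0 := by
  classical
  obtain ⟨r, hr, hx⟩ := o.surj (Function.update 0 i m)
  refine ⟨r, hr, by rw [hx, Function.update_self], fun j hj => ?_⟩
  rw [o.e_eq hr, hx, Function.update_of_ne hj]
  refine vec_eq ?_ ?_ <;> simp

end Rst

section qb

variable [Finite K] [CharP K 2] {B E R : Subgroup G} {N : NatKM K S P U D k} (o : Rst N R) (h : Nb N) (q : QB S U B E)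
include o h q

/-- the supports -/
theorem off_zero {r b : G} {i : Fin k} (hr : r ∈ R) (hri : ∀ j, j ≠ i → N.e r j = 0) {σ : Equiv.Perm (Fin k)}
    (hσ : Mv N b σ) {j : Fin k} (hj : j ≠ σ i) : N.e (b * r * b⁻¹) j = 0 := by
  have h1 := (hσ r (o.le hr) (σ.symm j)).2 (hri _ fun h2 => hj (by rw [← h2, σ.apply_symm_apply]))
  rwa [σ.apply_symm_apply] at h1

/-- a moved block -/
theorem moved {r b d : G} {i : Fin k} (hr : r ∈ R) (hri : ∀ j, j ≠ i → N.e r j = 0) (hb : b ∈ B) (hd : d ∈ B)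
    {σ : Equiv.Perm (Fin k)} (hσ : Mv N b σ) (hne : σ i ≠ i) (hdr : d * r * d⁻¹ ≠ r) :
    d * r * d⁻¹ = b * r * b⁻¹ := by
  have hbS := q.BS hb
  have hdS := q.BS hd
  obtain ⟨τ, hτ⟩ := N.perm d (BP h q hd)
  have hτ' : Mv N d τ := hτ
  have hrel := rel h q (o.le hr) hb hd
  have hbr := o.conj hbS hr
  have hdr' := o.conj hdS hr
  have hsb : ∀ j, j ≠ σ i → N.e (b * r * b⁻¹) j = 0 := fun j hj => off_zero o h q hr hri hσ hj
  have hsd : ∀ j, j ≠ τ i → N.e (d * r * d⁻¹) j = 0 := fun j hj => off_zero o h q hr hri hτ' hj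
  have hsdb : ∀ j, j ≠ τ (σ i) → N.e (d * (b * r * b⁻¹) * d⁻¹) j = 0 := fun j hj =>
    off_zero o h q hbr hsb hτ' hj
  have hτi : τ i ≠ τ (σ i) := fun h1 => hne (τ.injective h1).symm
  by_cases h1 : τ i = i
  · exfalso
    apply hdr
    refine o.inj' h hdr' hr fun j => ?_
    by_cases hj : j = i
    · have h2 := congrFun hrel i
      rw [Pi.add_apply, Pi.add_apply, hsdb i (fun h' => hτi (h1.trans h')), hsb i (Ne.symm hne), zero_add,
        zero_add] at h2
      rw [hj, h2]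
    · rw [hsd j (by rw [h1]; exact hj), hri j hj]
  · by_cases h2 : τ i = σ i
    · refine o.inj' h hdr' hbr fun j => ?_
      by_cases hj : j = σ i
      · have h3 := congrFun hrel (σ i)
        rw [Pi.add_apply, Pi.add_apply, hsdb (σ i) (fun h' => hτi (h2.trans h')), zero_add,
          hri (σ i) hne, add_zero] at h3
        rw [hj, h3]
      · rw [hsd j (by rw [h2]; exact hj), hsb j hj]
    · exfalso
      apply hdr
      have h3 := congrFun hrel (τ i)
      rw [Pi.add_apply, Pi.add_apply, hsdb (τ i) hτi, hsb (τ i) h2, zero_add, hri _ h1, add_zero] at h3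
      have h4 := (hτ' r (o.le hr) i).1 h3
      have h5 : r = 1 := by
        refine o.inj' h hr (one_mem R) fun j => ?_
        rw [Nb.e_one (M := N)]
        by_cases hj : j = i
        · rw [hj, h4]; rfl
        · rw [hri j hj]; rfl
      rw [h5]
      group

variable {z : G} (hz : z ∈ R) (hzB : ∀ b ∈ B, b * z = z * b) (hz0 : ∀ i, N.e z i 0 ≠ 0)
include hz hzB hz0

/-- a fixed block: `B` acts by field automorphisms -/
theorem field {b : G} (hb : b ∈ B) {σ : Equiv.Perm (Fin k)} (hσ : Mv N b σ) {i : Fin k} (hi : σ i = i) :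
    ∃ τ : K ≃+* K, (∀ x, τ (τ x) = x) ∧ ∀ r ∈ R, ∀ m : K, N.e r i 0 = m * N.e z i 0 →
      N.e (b * r * b⁻¹) i 0 = τ m * N.e z i 0 := by
  have hbP := BP h q hb
  obtain ⟨τ, hτ⟩ := exists_semi h hbP hσ i
  rw [hi] at hτ
  have he : ∀ v ∈ U, N.e (b * v * b⁻¹) i = ph N b i i (N.e v i) := by
    intro v hv
    have h1 := e_conj h hbP hσ hv i
    rwa [hi] at h1
  have hzfix : ph N b i i (N.e z i) = N.e z i := by
    rw [← he z (o.le hz), hzB b hb, mul_inv_cancel_right]
  have hm : ∀ m : K, ph N b i i (m • N.e z i) = τ m • N.e z i := fun m => by rw [hτ, hzfix]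
  refine ⟨τ, fun x => ?_, fun r hr m hrm => ?_⟩
  · have hv := em_mem N i (x • N.e z i)
    have h1 := he _ (h.memV hbP hv)
    rw [he _ hv, e_em_self, hm, hm] at h1
    have h2 : b * (b * em N i (x • N.e z i) * b⁻¹) * b⁻¹ = em N i (x • N.e z i) := by
      calc b * (b * em N i (x • N.e z i) * b⁻¹) * b⁻¹ = b * b * em N i (x • N.e z i) * (b * b)⁻¹ := by group
        _ = _ := by rw [q.sq b hb]; group
    rw [h2, e_em_self] at h1
    have h3 := congrFun h1 0
    rw [Pi.smul_apply, Pi.smul_apply, smul_eq_mul, smul_eq_mul] at h3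
    exact (mul_right_cancel₀ (hz0 i) h3).symm
  · have h1 : N.e r i = m • N.e z i := by
      rw [o.e_eq hr, o.e_eq hz, hrm]
      refine vec_eq ?_ ?_ <;> simp
    rw [he r (o.le hr), h1, hm, Pi.smul_apply, smul_eq_mul]

/-- **single elements of `R` are in `E`** -/
theorem single_mem {r : G} {i : Fin k} (hr : r ∈ R) (hri : ∀ j, j ≠ i → N.e r j = 0) : r ∈ E := by
  by_contra hE
  refine q.t1 r (o.le hr) hE fun b hb d hd hbr hdr => ?_
  obtain ⟨σ, hσ⟩ := N.perm b (BP h q hb)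
  obtain ⟨τ, hτ⟩ := N.perm d (BP h q hd)
  by_cases h1 : σ i = i
  · by_cases h2 : τ i = i
    · obtain ⟨s, hs, hs'⟩ := field o h q hz hzB hz0 hb hσ h1
      obtain ⟨t, ht, ht'⟩ := field o h q hz hzB hz0 hd hτ h2
      set m : K := N.e r i 0 / N.e z i 0 with hm
      have hrm : N.e r i 0 = m * N.e z i 0 := by rw [hm, div_mul_cancel₀ _ (hz0 i)]
      have key : ∀ g ∈ B, ∀ ρ : Equiv.Perm (Fin k), Mv N g ρ → ρ i = i → ∀ f : K ≃+* K,
          N.e (g * r * g⁻¹) i 0 = f m * N.e z i 0 → g * r * g⁻¹ ≠ r → f m ≠ m := by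
        intro g hg ρ hρ hρi f hf hne hfm
        apply hne
        refine o.inj h (o.conj (q.BS hg) hr) hr fun j => ?_
        by_cases hj : j = i
        · rw [hj, hf, hfm, ← hrm]
        · rw [off_zero o h q hr hri hρ (by rw [hρi]; exact hj), hri j hj]
      have hsm := key b hb σ hσ h1 s (hs' r hr m hrm) hbr
      have htm := key d hd τ hτ h2 t (ht' r hr m hrm) hdr
      refine o.inj h (o.conj (q.BS hb) hr) (o.conj (q.BS hd) hr) fun j => ?_
      by_cases hj : j = i
      · rw [hj, hs' r hr m hrm, ht' r hr m hrm, inv_unique hs ht hsm htm]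
      · rw [off_zero o h q hr hri hσ (by rw [h1]; exact hj), off_zero o h q hr hri hτ (by rw [h2]; exact hj)]
    · exact moved o h q hr hri hd hb hτ h2 hbr
  · exact (moved o h q hr hri hb hd hσ h1 hdr).symm

end qb

end mod

section mod2

variable {G : Type u} [Group G] {K : Type} [Field K] {S P U D : Subgroup G} {k : ℕ}
variable [Finite K] [CharP K 2] {B E R F' : Subgroup G} {N : NatKM K S P U D k} (o : Rst N R) (h : Nb N)

include o h in
/-- a subgroup which contains all single elements over the support of `r` contains `r` -/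
theorem mem_of_single {C : Subgroup G} {r : G} (hr : r ∈ R)
    (hC : ∀ l, N.e r l 0 ≠ 0 → ∀ t ∈ R, (∀ j, j ≠ l → N.e t j = 0) → t ∈ C) : r ∈ C := by
  classical
  have key : ∀ n : ℕ, ∀ r ∈ R, (Finset.univ.filter fun l => N.e r l 0 ≠ 0).card ≤ n →
      (∀ l, N.e r l 0 ≠ 0 → ∀ t ∈ R, (∀ j, j ≠ l → N.e t j = 0) → t ∈ C) → r ∈ C := by
    intro n
    induction n with
    | zero =>
      intro r hr hn _
      have h1 : r = 1 := by
        refine o.inj h hr (one_mem R) fun i => ?_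
        rw [Nb.e_one (M := N)]
        by_contra h2
        have h3 : i ∈ Finset.univ.filter fun l => N.e r l 0 ≠ 0 := Finset.mem_filter.2 ⟨Finset.mem_univ _, h2⟩
        have h4 := Finset.card_pos.2 ⟨i, h3⟩
        omega
      rw [h1]
      exact one_mem C
    | succ n ih =>
      intro r hr hn hC
      by_cases h0 : ∀ l, N.e r l 0 = 0
      · exact ih r hr (by rw [Finset.filter_false_of_mem (fun l _ => by simpa using h0 l)]; simp) hC
      · push Not at h0
        obtain ⟨l, hl⟩ := h0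
        obtain ⟨t, ht, htl, htj⟩ := o.exists_rs l (N.e r l 0)
        have htC := hC l hl t ht htj
        have hco : ∀ j, N.e (t⁻¹ * r) j 0 = N.e t j 0 + N.e r j 0 := fun j => by
          rw [N.mul _ (inv_mem (o.le ht)) _ (o.le hr), h.e_inv (o.le ht)]; rfl
        have hj : ∀ j, j ≠ l → N.e (t⁻¹ * r) j 0 = N.e r j 0 := fun j hj => by
          rw [hco, htj j hj]; simp
        have hll : N.e (t⁻¹ * r) l 0 = 0 := by rw [hco, htl, CharTwo.add_self_eq_zero]
        have h1 : t⁻¹ * r ∈ C := by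
          refine ih _ (mul_mem (inv_mem ht) hr) ?_ fun j hj0 => ?_
          · have h2 : (Finset.univ.filter fun j => N.e (t⁻¹ * r) j 0 ≠ 0) ⊂ Finset.univ.filter fun j => N.e r j 0 ≠ 0 := by
              rw [Finset.ssubset_iff_of_subset]
              · exact ⟨l, Finset.mem_filter.2 ⟨Finset.mem_univ _, hl⟩, fun h3 => (Finset.mem_filter.1 h3).2 hll⟩
              · intro j h3
                have h4 := (Finset.mem_filter.1 h3).2
                have h5 : j ≠ l := fun h6 => h4 (by rw [h6]; exact hll)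
                exact Finset.mem_filter.2 ⟨Finset.mem_univ _, by rwa [hj j h5] at h4⟩
            have h3 := Finset.card_lt_card h2
            omega
          · have h5 : j ≠ l := fun h6 => hj0 (by rw [h6]; exact hll)
            exact hC j (by rwa [hj j h5] at hj0)
        have h2 : r = t * (t⁻¹ * r) := by group
        rw [h2]
        exact mul_mem htC h1
  exact key _ r hr le_rfl hC

variable (q : QB S U B E) (hEF : ∀ e ∈ E, ∀ b ∈ B, b * e * b⁻¹ * e⁻¹ ∈ F')
variable {z : G} (hz : z ∈ R) (hzB : ∀ b ∈ B, b * z = z * b) (hz0 : ∀ i, N.e z i 0 ≠ 0)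
include o h q hEF hz hzB hz0

/-- the partial product over a `B`-orbit -/
theorem exists_g {j : Fin k} {r b : G} (hr : r ∈ R) (hrj : ∀ l, l ≠ j → N.e r l = 0) (hb : b ∈ B)
    (hbr : b * r ≠ r * b) :
    ∃ g ∈ R, g ∈ F' ∧ (∀ b ∈ B, b * g = g * b) ∧ N.e g j 0 = N.e z j 0 ∧
      ∀ l, N.e g l 0 = 0 ∨ (N.e g l 0 = N.e z l 0 ∧ ∃ b ∈ B, ∃ σ, Mv N b σ ∧ σ j = l) := by
  have hbS := q.BS hb
  have hbP := BP h q hb
  have hbr' : b * r * b⁻¹ ≠ r := fun h1 => hbr (mul_inv_eq_iff_eq_mul.1 h1)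
  obtain ⟨σ, hσ⟩ := N.perm b hbP
  have hσ' : Mv N b σ := hσ
  -- the element `[t, b]`
  have main : ∀ t ∈ R, (∀ l, l ≠ j → N.e t l = 0) → b * t * b⁻¹ * t⁻¹ ∈ R ∧ b * t * b⁻¹ * t⁻¹ ∈ F' ∧
      (∀ d ∈ B, d * (b * t * b⁻¹ * t⁻¹) = b * t * b⁻¹ * t⁻¹ * d) ∧
      ∀ l, N.e (b * t * b⁻¹ * t⁻¹) l 0 = N.e (b * t * b⁻¹) l 0 + N.e t l 0 := by
    intro t ht htj
    refine ⟨mul_mem (o.conj hbS ht) (inv_mem ht), hEF t (single_mem o h q hz hzB hz0 ht htj) b hb,
      fun d hd => q.quad t (o.le ht) b hb d hd, fun l => ?_⟩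
    rw [h.e_div (h.memV hbP (o.le ht)) (o.le ht)]; rfl
  by_cases h1 : σ j = j
  · obtain ⟨s, hs, hs'⟩ := field o h q hz hzB hz0 hb hσ' h1
    set m : K := N.e r j 0 / N.e z j 0 with hm
    have hrm : N.e r j 0 = m * N.e z j 0 := by rw [hm, div_mul_cancel₀ _ (hz0 j)]
    have hsm : s m ≠ m := by
      intro hfm
      apply hbr'
      refine o.inj h (o.conj hbS hr) hr fun l => ?_
      by_cases hl : l = j
      · rw [hl, hs' r hr m hrm, hfm, ← hrm]
      · rw [off_zero o h q hr hrj hσ' (by rw [h1]; exact hl), hrj l hl]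
    obtain ⟨m', hm'⟩ := exists_tr hs hsm
    obtain ⟨t, ht, htm, htj⟩ := o.exists_rs j (m' * N.e z j 0)
    obtain ⟨c1, c2, c3, c4⟩ := main t ht htj
    refine ⟨_, c1, c2, c3, ?_, fun l => ?_⟩
    · rw [c4, hs' t ht m' htm, htm, ← add_mul, hm', one_mul]
    · by_cases hl : l = j
      · right
        rw [hl]
        refine ⟨?_, b, hb, σ, hσ', h1⟩
        rw [c4, hs' t ht m' htm, htm, ← add_mul, hm', one_mul]
      · left
        rw [c4, off_zero o h q ht htj hσ' (by rw [h1]; exact hl), htj l hl]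
        simp
  · obtain ⟨t, ht, htm, htj⟩ := o.exists_rs j (N.e z j 0)
    obtain ⟨c1, c2, c3, c4⟩ := main t ht htj
    have hj : N.e (b * t * b⁻¹ * t⁻¹) j 0 = N.e z j 0 := by
      rw [c4, off_zero o h q ht htj hσ' (Ne.symm h1), htm]
      simp
    refine ⟨_, c1, c2, c3, hj, fun l => ?_⟩
    by_cases hl : l = j
    · right
      rw [hl]
      refine ⟨hj, 1, one_mem B, 1, fun v _ i => ?_, rfl⟩
      have e1 : 1 * v * (1 : G)⁻¹ = v := by group
      rw [e1]; rfl
    · by_cases hl2 : l = σ j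
      · right
        rw [hl2]
        refine ⟨?_, b, hb, σ, hσ', rfl⟩
        rw [c4, htj (σ j) h1]
        have h2 := e_conj h hbP hσ' (o.le ht) j
        have h3 := e_conj h hbP hσ' (o.le hz) j
        have h4 : N.e t j = N.e z j := by rw [o.e_eq ht, o.e_eq hz, htm]
        rw [h4, ← h3, hzB b hb, mul_inv_cancel_right] at h2
        rw [h2]
        simp
      · left
        rw [c4, off_zero o h q ht htj hσ' hl2, htj l hl]
        simp

/-- the product over all moved lines -/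
theorem exists_f : ∃ f ∈ R, f ∈ F' ∧ (∀ b ∈ B, b * f = f * b) ∧ (∀ l, N.e f l 0 = 0 ∨ N.e f l 0 = N.e z l 0) ∧
    ∀ j, N.e f j 0 = 0 → ∀ r ∈ R, (∀ l, l ≠ j → N.e r l = 0) → ∀ b ∈ B, b * r = r * b := by
  classical
  have key : ∀ n : ℕ, ∀ f ∈ R, f ∈ F' → (∀ b ∈ B, b * f = f * b) → (∀ l, N.e f l 0 = 0 ∨ N.e f l 0 = N.e z l 0) →
      (Finset.univ.filter fun l => N.e f l 0 = 0).card ≤ n →
      ∃ f ∈ R, f ∈ F' ∧ (∀ b ∈ B, b * f = f * b) ∧ (∀ l, N.e f l 0 = 0 ∨ N.e f l 0 = N.e z l 0) ∧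
        ∀ j, N.e f j 0 = 0 → ∀ r ∈ R, (∀ l, l ≠ j → N.e r l = 0) → ∀ b ∈ B, b * r = r * b := by
    intro n
    induction n with
    | zero =>
      intro f hf hfF hfB hfl hn
      refine ⟨f, hf, hfF, hfB, hfl, fun j hj => ?_⟩
      have h3 : j ∈ Finset.univ.filter fun l => N.e f l 0 = 0 := Finset.mem_filter.2 ⟨Finset.mem_univ _, hj⟩
      have h4 := Finset.card_pos.2 ⟨j, h3⟩
      omega
    | succ n ih =>
      intro f hf hfF hfB hfl hn
      by_cases hall : ∀ j, N.e f j 0 = 0 → ∀ r ∈ R, (∀ l, l ≠ j → N.e r l = 0) → ∀ b ∈ B, b * r = r * b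
      · exact ⟨f, hf, hfF, hfB, hfl, hall⟩
      · push Not at hall
        obtain ⟨j, hj, r, hr, hrj, b, hb, hbr⟩ := hall
        obtain ⟨g, hg, hgF, hgB, hgj, hgl⟩ := exists_g o h q hEF hz hzB hz0 hr hrj hb hbr
        have hco : ∀ l, N.e (f * g) l 0 = N.e f l 0 + N.e g l 0 := fun l => by
          rw [N.mul _ (o.le hf) _ (o.le hg)]; rfl
        have hfj : N.e f j = 0 := by
          rw [o.e_eq hf, hj]
          refine vec_eq ?_ ?_ <;> simp
        have hcase : ∀ l, N.e g l 0 = 0 ∨ (N.e g l 0 = N.e z l 0 ∧ N.e f l 0 = 0) := by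
          intro l
          rcases hgl l with h1 | ⟨h1, d, hd, σ, hσ, hσj⟩
          · exact Or.inl h1
          · right
            refine ⟨h1, ?_⟩
            have h2 := (hσ f (o.le hf) j).2 hfj
            rw [hfB d hd, mul_inv_cancel_right, hσj] at h2
            rw [h2]; rfl
        refine ih (f * g) (mul_mem hf hg) (mul_mem hfF hgF) (fun d hd => ?_) (fun l => ?_) ?_
        · exact (show Commute d f from hfB d hd).mul_right (show Commute d g from hgB d hd)
        · rw [hco]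
          rcases hcase l with h1 | ⟨h1, h2⟩
          · rw [h1, add_zero]; exact hfl l
          · rw [h1, h2, zero_add]; exact Or.inr rfl
        · have h2 : (Finset.univ.filter fun l => N.e (f * g) l 0 = 0) ⊂ Finset.univ.filter fun l => N.e f l 0 = 0 := by
            rw [Finset.ssubset_iff_of_subset]
            · refine ⟨j, Finset.mem_filter.2 ⟨Finset.mem_univ _, hj⟩, fun h3 => ?_⟩
              have h4 := (Finset.mem_filter.1 h3).2
              rw [hco, hj, zero_add, hgj] at h4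
              exact hz0 j h4
            · intro l h3
              have h4 := (Finset.mem_filter.1 h3).2
              refine Finset.mem_filter.2 ⟨Finset.mem_univ _, ?_⟩
              rw [hco] at h4
              rcases hcase l with h5 | ⟨h5, h6⟩
              · rwa [h5, add_zero] at h4
              · exact h6
          have h3 := Finset.card_lt_card h2
          omega
  refine key _ 1 (one_mem R) (one_mem F') (fun b _ => by group) (fun l => ?_) le_rfl
  left
  rw [Nb.e_one (M := N)]; rfl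

end mod2

/-! ### RC -/

section sit

variable {G : Type u} [Group G] [Finite G] {S : Sylow 2 G} {V F B P : Subgroup G}
variable {K : Type} [Field K] [Finite K] [CharP K 2] {k : ℕ}

/-- `[E, B] ≤ F` -/
theorem comm_EB (s : SitR S V F B P) {e b : G} (he : e ∈ EE V F) (hb : b ∈ B) : b * e * b⁻¹ * e⁻¹ ∈ F := by
  have h2 : b * e * b⁻¹ * e⁻¹ = (c e b)⁻¹ := by rw [c]; group
  rw [h2]
  exact inv_mem (s.flat.comm_EW he (s.BW hb))

/-- the input from the module -/
structure RstS (S : Sylow 2 G) (P : Subgroup G)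
    (N : NatKM K (S : Subgroup G) P (zl (S : Subgroup G) P) (cv (S : Subgroup G) P) k) (R : Subgroup G) : Prop
    extends Rst N R where
  dec : ∀ z ∈ zc (S : Subgroup G), ∃ d ∈ zc (S : Subgroup G) ⊓ cv (S : Subgroup G) P,
    ∃ r ∈ zc (S : Subgroup G) ⊓ R, z = d * r
  pt : ∀ r ∈ R, (∀ i, N.e r i 0 ≠ 0) → ∀ d ∈ zc (S : Subgroup G) ⊓ cv (S : Subgroup G) P,
    ∃ g ∈ P, d * r ∈ MulAut.conj g • zc (S : Subgroup G)

/-- `Z ≰ D` -/
theorem not_zc_le (hk : 0 < k) (N : NatKM K (S : Subgroup G) P (zl (S : Subgroup G) P) (cv (S : Subgroup G) P) k) :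
    ¬ zc (S : Subgroup G) ≤ cv (S : Subgroup G) P := by
  intro hle
  have h1 : zl (S : Subgroup G) P ≤ cv (S : Subgroup G) P :=
    MinSimple.VModule.zl_le hle NO3S.ThmB.Inst.le_normalizer_cv
  obtain ⟨v, hv, hve⟩ := N.surj (fun _ => ![1, 0])
  have h2 := (N.ker v hv).2 (h1 hv)
  rw [hve] at h2
  have h3 := congrFun (congrFun h2 ⟨0, hk⟩) 0
  simp at h3

/-- a vector of full support in `Z ∩ R` -/
theorem exists_z (hk : 0 < k)
    {N : NatKM K (S : Subgroup G) P (zl (S : Subgroup G) P) (cv (S : Subgroup G) P) k} {R : Subgroup G}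
    (o : RstS S P N R) : ∃ z ∈ zc (S : Subgroup G) ⊓ R, ∀ i, N.e z i 0 ≠ 0 := by
  obtain ⟨z, hz, hzD⟩ := SetLike.not_le_iff_exists.1 (not_zc_le hk N)
  obtain ⟨d, hd, r, hr, hzr⟩ := o.dec z hz
  obtain ⟨hrZ, hrR⟩ := mem_inf.1 hr
  have hrD : r ∉ cv (S : Subgroup G) P := fun h1 => hzD (by rw [hzr]; exact mul_mem hd.2 h1)
  have hrU := o.le hrR
  have h1 : ¬ N.e r = 0 := fun h2 => hrD ((N.ker r hrU).1 h2)
  obtain ⟨i, hi⟩ := Function.ne_iff.1 h1
  refine ⟨r, hr, fun j h0 => ?_⟩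
  obtain ⟨t, ht, h2⟩ := N.trans i j
  have h3 := h2 r hrU
  rw [(MinSimple.VModule.mem_zc.1 hrZ).2.1 t ht, mul_inv_cancel_right] at h3
  refine hi (h3.1 ?_)
  rw [o.toRst.e_eq hrR, h0]
  refine vec_eq ?_ ?_ <;> simp

/-- **The count**: `q |Z ∩ D| ≤ |C_V(B) : F|`. -/
theorem card_mul_le (s : SitR S V F B P) (hk : 0 < k)
    {N : NatKM K (S : Subgroup G) P (zl (S : Subgroup G) P) (cv (S : Subgroup G) P) k} {R : Subgroup G}
    (o : RstS S P N R) :
    Nat.card K * Nat.card ↥(zc (S : Subgroup G) ⊓ cv (S : Subgroup G) P) ≤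
      F.relIndex (V ⊓ centralizer (B : Set G)) := by
  classical
  have h : Nb N := NO3S.ThmB.Inst.nb s.ctx.char2 s.hP N
  have q := RC.qb s
  obtain ⟨z, hz, hz0⟩ := exists_z hk o
  obtain ⟨hzZ, hzR⟩ := mem_inf.1 hz
  have hZB : ∀ y ∈ zc (S : Subgroup G), ∀ b ∈ B, b * y = y * b := fun y hy b hb =>
    (MinSimple.VModule.mem_zc.1 hy).2.1 b (s.BS hb)
  obtain ⟨f, hfR, hfF, hfB, hfl, hf0⟩ := exists_f (F' := F) o.toRst h q (fun e he b hb => comm_EB s he hb) hzR
    (hZB z hzZ) hz0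
  -- the vectors `y m`
  have hy : ∀ m : K, ∃ y ∈ R, ∀ l, N.e y l 0 = if N.e f l 0 = 0 then m * N.e z l 0 else 0 := fun m => o.surj _
  choose y hyR hyl using hy
  have hyC : ∀ m, y m ∈ centralizer (B : Set G) := by
    intro m
    refine mem_of_single o.toRst h (hyR m) fun l hl t ht htj => ?_
    rw [mem_centralizer_iff]
    intro b hb
    refine hf0 l ?_ t ht htj b hb
    by_contra h1
    rw [hyl, if_neg h1] at hl
    exact hl rfl
  have hUV : ∀ {x : G}, x ∈ R → x ∈ V := fun hx => s.UV (o.le hx)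
  have hsub : ∀ m n : K, (y m)⁻¹ * y n = y (m + n) := by
    intro m n
    refine o.toRst.inj h (mul_mem (inv_mem (hyR m)) (hyR n)) (hyR _) fun l => ?_
    rw [N.mul _ (inv_mem (o.le (hyR m))) _ (o.le (hyR n)), h.e_inv (o.le (hyR m)), Pi.add_apply, Pi.add_apply, hyl, hyl,
      hyl]
    split_ifs
    · rw [add_mul]
    · rw [add_zero]
  have hy1 : y 0 = 1 := by
    refine o.toRst.inj h (hyR 0) (one_mem R) fun l => ?_
    rw [hyl, Nb.e_one (M := N)]
    split_ifs <;> simp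
  -- the key: `y m e ∈ F` implies `m = 0`, `e = 1`
  have key : ∀ m : K, ∀ e ∈ zc (S : Subgroup G) ⊓ cv (S : Subgroup G) P, e * y m ∈ F → m = 0 ∧ e = 1 := by
    intro m e he hF
    have hm : m = 0 := by
      by_contra hm
      have h1 : ∀ l, N.e (y m * f) l 0 ≠ 0 := by
        intro l
        rw [N.mul _ (o.le (hyR m)) _ (o.le hfR), Pi.add_apply, Pi.add_apply, hyl]
        by_cases h2 : N.e f l 0 = 0
        · rw [if_pos h2, h2, add_zero]
          exact mul_ne_zero hm (hz0 l)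
        · rw [if_neg h2, zero_add]
          exact h2
      have h2 := mul_mem (hyR m) hfR
      obtain ⟨g, hg, hgp⟩ := o.pt _ h2 h1 e he
      have h3 : e * (y m * f) ∈ MulAut.conj g • zc (S : Subgroup G) ⊓ F := by
        refine mem_inf.2 ⟨hgp, ?_⟩
        have h4 : e * (y m * f) = e * y m * f := by group
        rw [h4]
        exact mul_mem hF hfF
      rw [s.ptP hg, mem_bot] at h3
      have h4 : y m * f ∈ R ⊓ cv (S : Subgroup G) P := by
        refine mem_inf.2 ⟨h2, ?_⟩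
        have h5 : y m * f = e⁻¹ := (eq_inv_of_mul_eq_one_right h3)
        rw [h5]
        exact inv_mem he.2
      rw [o.inf, mem_bot] at h4
      have h5 := h1 ⟨0, hk⟩
      rw [h4, Nb.e_one (M := N)] at h5
      exact h5 rfl
    refine ⟨hm, ?_⟩
    rw [hm, hy1, mul_one] at hF
    have h1 : e ∈ zc (S : Subgroup G) ⊓ F := mem_inf.2 ⟨he.1, hF⟩
    rwa [s.zc_inf, mem_bot] at h1
  rw [← Nat.card_prod, relIndex, index]
  have hmem : ∀ m : K, ∀ e : ↥(zc (S : Subgroup G) ⊓ cv (S : Subgroup G) P),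
      (e : G) * y m ∈ V ⊓ centralizer (B : Set G) := by
    intro m e
    have he := mem_inf.1 e.2
    refine mul_mem (mem_inf.2 ⟨s.UV (zc_le_zl _ _ he.1), ?_⟩) (mem_inf.2 ⟨hUV (hyR m), hyC m⟩)
    rw [mem_centralizer_iff]
    exact fun b hb => hZB _ he.1 b hb
  refine Nat.card_le_card_of_injective
    (fun p : K × ↥(zc (S : Subgroup G) ⊓ cv (S : Subgroup G) P) =>
      (QuotientGroup.mk (⟨(p.2 : G) * y p.1, hmem p.1 p.2⟩ : ↥(V ⊓ centralizer (B : Set G))) :
        ↥(V ⊓ centralizer (B : Set G)) ⧸ F.subgroupOf (V ⊓ centralizer (B : Set G)))) ?_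
  rintro ⟨m, e⟩ ⟨n, e'⟩ heq
  rw [QuotientGroup.eq, mem_subgroupOf] at heq
  replace heq : ((e : G) * y m)⁻¹ * ((e' : G) * y n) ∈ F := heq
  have hc : ∀ {a b : G}, a ∈ V → b ∈ V → a * b = b * a := fun ha hb => s.flat.V_comm ha hb
  have heV : (e : G) ∈ V := s.UV (zc_le_zl _ _ (mem_inf.1 e.2).1)
  have heV' : (e' : G) ∈ V := s.UV (zc_le_zl _ _ (mem_inf.1 e'.2).1)
  have h1 : ((e : G) * y m)⁻¹ * ((e' : G) * y n) = (e : G)⁻¹ * (e' : G) * y (m + n) := by
    rw [← hsub]
    have h2 : (e : G)⁻¹ * (e' : G) * (y m)⁻¹ = (y m)⁻¹ * ((e : G)⁻¹ * (e' : G)) :=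
      hc (mul_mem (inv_mem heV) heV') (inv_mem (hUV (hyR m)))
    calc ((e : G) * y m)⁻¹ * ((e' : G) * y n) = (y m)⁻¹ * ((e : G)⁻¹ * (e' : G)) * y n := by group
      _ = (e : G)⁻¹ * (e' : G) * (y m)⁻¹ * y n := by rw [h2]
      _ = _ := by group
  rw [h1] at heq
  obtain ⟨h2, h3⟩ := key _ _ (mul_mem (inv_mem e.2) e'.2) heq
  refine Prod.ext ?_ (Subtype.ext ?_)
  · exact CharTwo.add_eq_zero.1 h2
  · exact (inv_mul_eq_one.1 h3)

/-- **RC** from the module input and `|C_V(B) : F| ≤ q`. -/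
theorem rc_of (s : SitR S V F B P) (hk : 0 < k)
    {N : NatKM K (S : Subgroup G) P (zl (S : Subgroup G) P) (cv (S : Subgroup G) P) k} {R : Subgroup G}
    (o : RstS S P N R) (hq : F.relIndex (V ⊓ centralizer (B : Set G)) ≤ Nat.card K) :
    cv (S : Subgroup G) P = ⊥ := by
  have h1 := (card_mul_le s hk o).trans hq
  have h2 : Nat.card ↥(zc (S : Subgroup G) ⊓ cv (S : Subgroup G) P) = 1 := by
    have h3 : 0 < Nat.card K := Nat.card_pos
    have h4 : 0 < Nat.card ↥(zc (S : Subgroup G) ⊓ cv (S : Subgroup G) P) := Nat.card_pos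
    refine le_antisymm ?_ h4
    exact Nat.le_of_mul_le_mul_left (by rwa [mul_one]) h3
  have h3 := Subgroup.card_eq_one.1 h2
  refine NoFF.LinesPlug.inf_oddGen_eq_bot s.ctx.char2 S s.hP.toIsPar (le_bot_iff.1 ?_)
  rw [← h3]
  exact le_inf inf_le_left (le_inf (inf_le_left.trans (zc_le_zl _ _))
    (inf_le_right.trans (centralizer_le (MinSimple.VModule.oddGen_le P))))

end sit

end Cfsg.Agent.Omega.NOThreeL.RLow.Cnt
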